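import Mathlib
import Groth.Agent.Lib.Helper1.FlatNilpotent
import Groth.Agent.Lib.Helper5.DefoLoc.A

/-!
# Flatness over the dual numbers (helper5)
-/

set_option autoImplicit false
set_option linter.style.haveILetI false
universe u v
open TensorProduct

namespace Groth.Agent.H5.DefoExt

open Groth.Agent.H5.DefoLoc

variable {k : Type u} [Field k]

theorem mem_maximalIdeal_iff (a : DualNumber k) :
    a ∈ IsLocalRing.maximalIdeal (DualNumber k) ↔ a.fst = 0 := by
  rw [IsLocalRing.mem_maximalIdeal, mem_nonunits_iff, TrivSqZeroExt.isUnit_iff_isUnit_fst,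
    isUnit_iff_ne_zero, not_not]

theorem mul_eq_zero_of_fst (a b : DualNumber k) (ha : a.fst = 0) (hb : b.fst = 0) : a * b = 0 := by
  rw [eq_eps_mul a ha, eq_eps_mul b hb]
  have : (DualNumber.eps : DualNumber k) * (TrivSqZeroExt.inl a.snd : DualNumber k) *
      ((DualNumber.eps : DualNumber k) * (TrivSqZeroExt.inl b.snd : DualNumber k)) =
      ((DualNumber.eps : DualNumber k) * DualNumber.eps) *
        ((TrivSqZeroExt.inl a.snd : DualNumber k) * (TrivSqZeroExt.inl b.snd : DualNumber k)) := by
    ring
  rw [this, DualNumber.eps_mul_eps, zero_mul]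

/-- a module over the dual numbers on which `ker ε ⊆ im ε` is flat. -/
theorem flat_of_eps {M : Type v} [AddCommGroup M] [Module (DualNumber k) M]
    (h : ∀ m : M, (DualNumber.eps : DualNumber k) • m = 0 →
      ∃ m' : M, m = (DualNumber.eps : DualNumber k) • m') :
    Module.Flat (DualNumber k) M := by
  classical
  let J : Ideal (DualNumber k) := IsLocalRing.maximalIdeal (DualNumber k)
  have hnil : IsNilpotent J := by
    refine ⟨2, ?_⟩
    have hsq : J ^ 2 = J * J := pow_two J
    rw [hsq, Ideal.zero_eq_bot, eq_bot_iff, Ideal.mul_le]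
    intro a ha b hb
    rw [Ideal.mem_bot]
    exact mul_eq_zero_of_fst a b ((mem_maximalIdeal_iff a).1 ha) ((mem_maximalIdeal_iff b).1 hb)
  letI : Field (DualNumber k ⧸ J) := Ideal.Quotient.field J
  haveI : Module.Flat (DualNumber k ⧸ J) ((DualNumber k ⧸ J) ⊗[DualNumber k] M) := inferInstance
  apply Groth.Agent.H1.flat_of_isNilpotent_of_flat_quotient J hnil
  have hε : (DualNumber.eps : DualNumber k) ∈ J := (mem_maximalIdeal_iff _).2 (by simp)
  have hform : ∀ t : J ⊗[DualNumber k] M, ∃ m : M,
      t = (⟨(DualNumber.eps : DualNumber k), hε⟩ : J) ⊗ₜ[DualNumber k] m := by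
    intro t
    induction t using TensorProduct.induction_on with
    | zero => exact ⟨0, (TensorProduct.tmul_zero _ _).symm⟩
    | tmul j m =>
      refine ⟨(TrivSqZeroExt.inl (j : DualNumber k).snd : DualNumber k) • m, ?_⟩
      rw [← TensorProduct.smul_tmul]
      congr 1
      apply Subtype.ext
      change (j : DualNumber k) =
        (TrivSqZeroExt.inl (j : DualNumber k).snd : DualNumber k) * DualNumber.eps
      rw [mul_comm]
      exact eq_eps_mul _ ((mem_maximalIdeal_iff _).1 j.2)
    | add x y hx hy =>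
      obtain ⟨m, rfl⟩ := hx
      obtain ⟨m', rfl⟩ := hy
      exact ⟨m + m', (TensorProduct.tmul_add _ _ _).symm⟩
  rw [injective_iff_map_eq_zero]
  intro t ht
  obtain ⟨m, rfl⟩ := hform t
  rw [LinearMap.rTensor_tmul] at ht
  have h2 : (DualNumber.eps : DualNumber k) • m = 0 := by
    have := congrArg (TensorProduct.lid (DualNumber k) M) ht
    rw [map_zero, TensorProduct.lid_tmul] at this
    exact this
  obtain ⟨m', rfl⟩ := h m h2
  rw [← TensorProduct.smul_tmul]
  have h3 : (DualNumber.eps : DualNumber k) • (⟨(DualNumber.eps : DualNumber k), hε⟩ : J) = 0 := by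
    apply Subtype.ext
    change (DualNumber.eps : DualNumber k) * DualNumber.eps = 0
    exact DualNumber.eps_mul_eps
  rw [h3, TensorProduct.zero_tmul]

end Groth.Agent.H5.DefoExt
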