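import Mathlib
import Groth.Agent.Lib.Helper5.DefoExt.Flat
import Groth.Agent.Lib.Helper5.DConn.Bij
import Groth.Agent.Lib.Helper5.TFQ.Basic
import Groth.Agent.Lib.Helper2.Ext1

/-!
# First-order deformations of a module and `Ext¹` (helper5, for S17435)
-/

set_option autoImplicit false
set_option linter.style.haveILetI false
universe u
open CategoryTheory CategoryTheory.Limits AlgebraicGeometry TopologicalSpace Opposite

namespace Groth.Agent.H5.DefoExt

open Groth.Agent.LD Groth.Agent.LD.QC Groth.Agent.H5.DefoLoc Groth.Agent.H5.DConn ArtFun ArtFun.Art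

attribute [-instance] Groth.Agent.LD.QC.stalkModule

variable {k : Type u} [Field k] {X : Scheme.{u}} [X.Over (Spec (CommRingCat.of k))]
  {E : X.Modules}

section Iota

variable (D : DefoSh.Defo E (ArtFun.Art.dual k k))

theorem kernel_ι_comp_eps : kernel.ι D.π ≫ epsD D = 0 := by
  apply Groth.Agent.H5.TFQ.eq_zero_of_sf
  intro x a
  change RefHull.stalkMapₗ (kernel.ι D.π ≫ epsD D) x a = 0
  rw [DefoSh.stalkMapₗ_comp_apply]
  obtain ⟨w, hw⟩ := exists_eps_of_π_eq_zero D x (RefHull.stalkMapₗ (kernel.ι D.π) x a) (by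
    rw [← DefoSh.stalkMapₗ_comp_apply, kernel.condition, DefoSh.stalkMapₗ_zero_apply])
  rw [hw, epsD_epsD_apply]

/-- the canonical map `E → D` with `π ≫ ι = ε`. -/
noncomputable def iotaOf : E ⟶ D.sheaf :=
  Abelian.epiDesc D.π (epsD D) (kernel_ι_comp_eps D)

theorem π_comp_iotaOf : D.π ≫ iotaOf D = D.act (DualNumber.eps : DualNumber k) :=
  Abelian.comp_epiDesc _ _ _

theorem eq_iotaOf (i : E ⟶ D.sheaf) (hi : D.π ≫ i = D.act (DualNumber.eps : DualNumber k)) :
    i = iotaOf D :=
  (cancel_epi D.π).mp (hi.trans (π_comp_iotaOf D).symm)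

variable [HasExt.{u} X.Modules]

/-- the extension class of a first-order deformation. -/
noncomputable def extOf : Abelian.Ext.{u} E E 1 :=
  (shortExact_ιπ D (iotaOf D) (π_comp_iotaOf D)).extClass

theorem extOf_eq (i : E ⟶ D.sheaf) (hi : D.π ≫ i = D.act (DualNumber.eps : DualNumber k))
    (h0 : i ≫ D.π = 0) (hS : (ShortComplex.mk i D.π h0).ShortExact) :
    extOf D = hS.extClass := by
  have h := eq_iotaOf D i hi
  subst h
  rfl

end Iota

section Iso

variable [HasExt.{u} X.Modules]

theorem extOf_iso {D D' : DefoSh.Defo E (ArtFun.Art.dual k k)} (f : DefoSh.Defo.Iso D D') :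
    extOf D = extOf D' := by
  have h1 : iotaOf D ≫ f.iso.hom = iotaOf D' := by
    have h : D.π ≫ (iotaOf D ≫ f.iso.hom) = D.π ≫ iotaOf D' := by
      rw [← Category.assoc, π_comp_iotaOf, f.act_hom, ← π_comp_iotaOf D', ← Category.assoc,
        f.hom_π]
    exact (cancel_epi D.π).mp h
  let φ : ShortComplex.mk (iotaOf D) D.π (ι_comp_π D _ (π_comp_iotaOf D)) ⟶
      ShortComplex.mk (iotaOf D') D'.π (ι_comp_π D' _ (π_comp_iotaOf D')) :=
    { τ₁ := 𝟙 _
      τ₂ := f.iso.hom
      τ₃ := 𝟙 _
      comm₁₂ := by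
        change 𝟙 _ ≫ iotaOf D' = iotaOf D ≫ f.iso.hom
        rw [Category.id_comp, h1]
      comm₂₃ := by
        change f.iso.hom ≫ D'.π = D.π ≫ 𝟙 _
        rw [Category.comp_id, f.hom_π] }
  have h := ShortComplex.ShortExact.extClass_naturality
    (shortExact_ιπ D (iotaOf D) (π_comp_iotaOf D))
    (shortExact_ιπ D' (iotaOf D') (π_comp_iotaOf D')) φ
  change (extOf D).comp (Abelian.Ext.mk₀ (𝟙 E)) (add_zero 1) =
    (Abelian.Ext.mk₀ (𝟙 E)).comp (extOf D') (zero_add 1) at h
  rw [Abelian.Ext.comp_mk₀_id, Abelian.Ext.mk₀_id_comp] at h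
  exact h

theorem iso_of_extOf_eq {D D' : DefoSh.Defo E (ArtFun.Art.dual k k)} (h : extOf D = extOf D') :
    Nonempty (DefoSh.Defo.Iso D D') := by
  obtain ⟨θ, h1, h2⟩ := Groth.Agent.H2.Ext1.exists_iso_of_extClass_eq
    (iotaOf D') D'.π (ι_comp_π D' _ (π_comp_iotaOf D'))
    (shortExact_ιπ D' (iotaOf D') (π_comp_iotaOf D'))
    (iotaOf D) D.π (ι_comp_π D _ (π_comp_iotaOf D))
    (shortExact_ιπ D (iotaOf D) (π_comp_iotaOf D)) h.symm
  have hε : epsD D ≫ θ.hom = θ.hom ≫ epsD D' := by
    change D.act (DualNumber.eps : DualNumber k) ≫ θ.hom =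
      θ.hom ≫ D'.act (DualNumber.eps : DualNumber k)
    rw [← π_comp_iotaOf D, ← π_comp_iotaOf D', Category.assoc, h1, ← Category.assoc, h2]
  refine ⟨⟨θ, fun a => ?_, h2⟩⟩
  rw [comm_act D θ.hom (epsD D') hε a, ← act_eq]

end Iso

section Realize

variable {F : X.Modules} (u : E ⟶ F) (v : F ⟶ E) (w : u ≫ v = 0)
  (hS : (ShortComplex.mk u v w).ShortExact)

/-- the nilpotent endomorphism `v ≫ u`. -/
noncomputable def nEnd : End F := v ≫ u

include w in
theorem nEnd_mul_self : nEnd u v * nEnd u v = 0 := by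
  rw [End.mul_def, nEnd, Category.assoc, ← Category.assoc u, w, zero_comp, comp_zero]

variable (k) in
/-- the action of the dual numbers on the middle term of an extension of `E` by `E`. -/
noncomputable def actOf : DualNumber k →ₐ[k] End F :=
  DualNumber.lift ⟨(Algebra.ofId k (End F), nEnd u v),
    nEnd_mul_self u v w, fun a => (Algebra.commutes a (nEnd u v)).symm⟩

theorem actOf_apply (z : DualNumber k) :
    actOf k u v w z = z.fst • (1 : End F) + z.snd • nEnd u v := by
  change algebraMap k (End F) z.fst + (algebraMap k (End F) z.snd) * nEnd u v = _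
  rw [Algebra.algebraMap_eq_smul_one, Algebra.algebraMap_eq_smul_one, smul_mul_assoc, one_mul]

theorem actOf_hom (z : DualNumber k) :
    (actOf k u v w z : F ⟶ F) = z.fst • 𝟙 F + z.snd • (v ≫ u) :=
  actOf_apply (k := k) u v w z

theorem actOf_eps : (actOf k u v w (DualNumber.eps : DualNumber k) : F ⟶ F) = v ≫ u := by
  rw [actOf_hom]
  simp

include hS in
theorem stalk_exact' (p : X) (z : ↑(F.presheaf.stalk p)) (hz : RefHull.stalkMapₗ v p z = 0) :
    ∃ t : ↑(F.presheaf.stalk p), z = RefHull.stalkMapₗ (v ≫ u) p t := by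
  haveI := hS.epi_g
  obtain ⟨e, he⟩ := Groth.Agent.H5.TFQ.sf_exact hS p z hz
  obtain ⟨t, ht⟩ := Groth.Agent.H5.TFQ.sf_surjective v p e
  refine ⟨t, ?_⟩
  rw [DefoSh.stalkMapₗ_comp_apply]
  change z = RefHull.stalkMapₗ u p (Groth.Agent.H5.Dec.stalkFun v p t)
  rw [ht]
  exact he.symm

variable (k) in
include hS in
/-- the first-order deformation attached to an extension of `E` by `E`. -/
noncomputable def defoOf : DefoSh.Defo E (ArtFun.Art.dual k k) where
  sheaf := F
  act := actOf k u v w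
  π := v
  act_π a ha := by
    have ha' : TrivSqZeroExt.fst (a : DualNumber k) = 0 := ha
    have h := actOf_hom (k := k) u v w (a : DualNumber k)
    change (actOf k u v w (a : DualNumber k) : F ⟶ F) ≫ v = 0
    rw [h, ha', zero_smul, zero_add, Linear.smul_comp, Category.assoc, w, comp_zero,
      smul_zero]
  surj p := by
    haveI := hS.epi_g
    exact Groth.Agent.H5.TFQ.sf_surjective v p
  ker_le p z hz := by
    letI : Module (dual k k) ↑(F.presheaf.stalk p) :=
      DefoSh.stalkModule (A := dual k k) F (actOf k u v w).toRingHom p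
    let ε : (dual k k) := (DualNumber.eps : DualNumber k)
    have hε : ε ∈ IsLocalRing.maximalIdeal (dual k k) := by
      rw [Art.mem_maximalIdeal_iff]
      rfl
    obtain ⟨t, ht⟩ := stalk_exact' u v w hS p z hz
    have hz' : z = ε • t := by
      change z = RefHull.stalkMapₗ (actOf k u v w (DualNumber.eps : DualNumber k) : F ⟶ F) p t
      rw [actOf_eps]
      exact ht
    rw [hz']
    exact Submodule.smul_mem_smul hε Submodule.mem_top
  flat p := by
    letI mF : Module (DualNumber k) ↑(F.presheaf.stalk p) :=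
      DefoSh.stalkModule (A := dual k k) F (actOf k u v w).toRingHom p
    refine @flat_of_eps k _ _ _ mF ?_
    intro m hm
    have hm' : RefHull.stalkMapₗ (v ≫ u) p m = 0 := by
      rw [← actOf_eps (k := k) u v w]
      exact hm
    rw [DefoSh.stalkMapₗ_comp_apply] at hm'
    haveI := hS.mono_f
    have h2 : RefHull.stalkMapₗ v p m = 0 :=
      Groth.Agent.H5.TFQ.sf_injective u p (hm'.trans (map_zero _).symm)
    obtain ⟨t, ht⟩ := stalk_exact' u v w hS p m h2
    refine ⟨t, ?_⟩
    change m = RefHull.stalkMapₗ (actOf k u v w (DualNumber.eps : DualNumber k) : F ⟶ F) p t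
    rw [actOf_eps]
    exact ht

variable [HasExt.{u} X.Modules]

include hS in
theorem extOf_defoOf : extOf (defoOf k u v w hS) = hS.extClass :=
  extOf_eq (defoOf k u v w hS) u (actOf_eps u v w).symm w hS

end Realize

section Main

variable [HasExt.{u} X.Modules]

theorem extOf_trivDual : extOf (DefoSh.Defo.trivDual k E) = 0 := by
  have hi : (DefoSh.Defo.trivDual k E).π ≫ (biprod.inr : E ⟶ E ⊞ E) =
      (DefoSh.Defo.trivDual k E).act (DualNumber.eps : DualNumber k) :=
    (DefoSh.dualAct_eps E).symm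
  have hS := shortExact_ιπ (DefoSh.Defo.trivDual k E) biprod.inr hi
  rw [extOf_eq _ biprod.inr hi _ hS]
  have h1 : (Abelian.Ext.mk₀ (biprod.fst : E ⊞ E ⟶ E)).comp hS.extClass (zero_add 1) = 0 :=
    hS.comp_extClass
  have h2 : hS.extClass = (Abelian.Ext.mk₀ (𝟙 E)).comp hS.extClass (zero_add 1) :=
    (Abelian.Ext.mk₀_id_comp _).symm
  rw [h2, ← biprod.inl_fst (X := E) (Y := E), ← Abelian.Ext.mk₀_comp_mk₀,
    Abelian.Ext.comp_assoc _ _ _ (zero_add 0) (zero_add 1) (by omega)]
  change (Abelian.Ext.mk₀ biprod.inl).comp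
    ((Abelian.Ext.mk₀ (biprod.fst : E ⊞ E ⟶ E)).comp hS.extClass (zero_add 1)) _ = 0
  rw [h1, Abelian.Ext.comp_zero]

variable (k E) in
theorem main : ∃ e : DefoSh.FirstOrder k E ≃ Abelian.Ext.{u} E E 1,
    e (DefoSh.Defo.trivDual k E).cl = 0 ∧
    ∀ (D : DefoSh.Defo E (ArtFun.Art.dual k k)) (i : E ⟶ D.sheaf)
      (_ : D.π ≫ i = D.act (DualNumber.eps : DualNumber k))
      (h0 : i ≫ D.π = 0) (hS : (ShortComplex.mk i D.π h0).ShortExact),
      e D.cl = hS.extClass := by
  let e₀ : DefoSh.FirstOrder k E → Abelian.Ext.{u} E E 1 :=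
    Quotient.lift (fun D => extOf D) (fun D D' ⟨f⟩ => extOf_iso f)
  have hbij : Function.Bijective e₀ := by
    constructor
    · intro a b hab
      induction a using Quotient.inductionOn with | _ D =>
      induction b using Quotient.inductionOn with | _ D' =>
      exact Quotient.sound (iso_of_extOf_eq hab)
    · intro x
      obtain ⟨F, u, v, w, hS, hx⟩ := Groth.Agent.H2.Ext1.exists_shortExact_extClass x
      exact ⟨(defoOf k u v w hS).cl, (extOf_defoOf u v w hS).trans hx⟩
  refine ⟨Equiv.ofBijective e₀ hbij, ?_, ?_⟩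
  · exact extOf_trivDual
  · intro D i hi h0 hS
    exact extOf_eq D i hi h0 hS

end Main

end Groth.Agent.H5.DefoExt
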